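import Groth.Agent.H88.EtMod.SepClosedPoint
import Groth.Agent.H88.EtMod.ConstNormal
import Groth.Agent.Lib.EtSite.ExtCompare
import Groth.Agent.Lib.EtSite.StrictHens
import Mathlib.AlgebraicGeometry.FunctionField
import Mathlib.FieldTheory.IsAlgClosed.Basic

/-!
# Constant sheaves on normal integral schemes with separably closed function field
-/

set_option autoImplicit false
set_option linter.style.haveILetI false

universe u

open CategoryTheory CategoryTheory.Limits CategoryTheory.Abelian AlgebraicGeometry Opposite

noncomputable section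

namespace Groth.Agent.H61.GenPt

open Groth.Agent.H61 FieldCoh Groth.Agent.Lib.EtSite

variable {K : Type u} [Field K] [IsSepClosed K] {Y : Scheme.{u}} (η : S K ⟶ Y)

theorem preservesHomology_push : (EtCoh.push η).PreservesHomology := by
  haveI : PreservesLimitsOfSize.{0, 0} (EtCoh.push η) := (EtCoh.pullPushAdj η).rightAdjoint_preservesLimits
  haveI := Groth.Agent.H88.EtMod.SepClosedPoint.preservesEpimorphisms η
  haveI : PreservesFiniteLimits (EtCoh.push η) := ⟨fun _ _ _ => inferInstance⟩
  haveI : (EtCoh.push η).Additive := Functor.additive_of_preserves_binary_products _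
  exact Functor.preservesHomology_of_preservesEpis_and_kernels _

theorem gsec_preservesEpimorphisms : (EtCore.gsec (S K)).PreservesEpimorphisms := by
  haveI : IsSepClosed (IsLocalRing.ResidueField K) :=
    Groth.Agent.Lib.Henselian.StrictHenselization.isSepClosed_of_ringEquiv
      (RingEquiv.ofBijective (IsLocalRing.residue K)
        ⟨(IsLocalRing.residue K).injective, IsLocalRing.residue_surjective⟩)
  exact StrictHens.gsec_preservesEpimorphisms K

/-- Sheaves pushed forward from a separably closed point have no higher cohomology. -/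
theorem H_push_subsingleton (n : ℕ) (G : EtCoh.Ab (S K)) :
    Subsingleton (EtCoh.H Y ((EtCoh.push η).obj G) (n + 1)) := by
  induction n generalizing G with
  | zero =>
    let J : InjectivePresentation G := Classical.arbitrary _
    let T := ShortComplex.mk _ _ (cokernel.condition J.f)
    have hT : T.ShortExact := { exact := ShortComplex.exact_cokernel J.f }
    have := preservesHomology_push η
    have hT' : (T.map (EtCoh.push η)).ShortExact := hT.map _
    have : Injective (T.map (EtCoh.push η)).X₂ :=
      Injective.injective_of_adjoint (EtCoh.pullPushAdj η) J.J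
    refine subsingleton_of_forall_eq 0 fun x => ?_
    obtain ⟨x₃, rfl⟩ := Ext.covariant_sequence_exact₁ _ hT' x (Ext.eq_zero_of_injective _) (zero_add 1)
    obtain ⟨φ, rfl⟩ := (Ext.mk₀_bijective _ _).2 x₃
    have : Projective (AddCommGrpCat.of (ULift.{u + 1} ℤ)) := StrictHens.projective_ulift_int
    have hepi : Epi ((EtCore.gsec Y).map (T.map (EtCoh.push η)).g) := by
      have := gsec_preservesEpimorphisms (K := K)
      have : Epi T.g := hT.epi_g
      have hh : Epi ((EtCoh.push η ⋙ EtCore.gsec Y).map T.g) :=
        Functor.PreservesEpimorphisms.of_iso (EtCore.pushGsecIso η).symm |>.preserves T.g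
      exact hh
    obtain ⟨ψ, hψ⟩ : ∃ ψ, ψ ≫ (EtCore.gsec Y).map (T.map (EtCoh.push η)).g =
        (EtCore.constAdj Y).homEquiv _ _ φ :=
      ⟨Projective.factorThru _ _, Projective.factorThru_comp _ _⟩
    obtain ⟨g, rfl⟩ : ∃ g, φ = g ≫ (T.map (EtCoh.push η)).g := ⟨((EtCore.constAdj Y).homEquiv _ _).symm ψ,
      ((EtCore.constAdj Y).homEquiv _ _).injective (by
        rw [(EtCore.constAdj Y).homEquiv_naturality_right, Equiv.apply_symm_apply]
        exact hψ.symm)⟩
    rw [← Ext.mk₀_comp_mk₀, Ext.comp_assoc_of_second_deg_zero, hT'.comp_extClass, Ext.comp_zero]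
    rfl
  | succ n ih =>
    let J : InjectivePresentation G := Classical.arbitrary _
    let T := ShortComplex.mk _ _ (cokernel.condition J.f)
    have hT : T.ShortExact := { exact := ShortComplex.exact_cokernel J.f }
    have := preservesHomology_push η
    have hT' : (T.map (EtCoh.push η)).ShortExact := hT.map _
    have : Injective (T.map (EtCoh.push η)).X₂ :=
      Injective.injective_of_adjoint (EtCoh.pullPushAdj η) J.J
    refine subsingleton_of_forall_eq 0 fun x => ?_
    obtain ⟨x₃, rfl⟩ := Ext.covariant_sequence_exact₁ _ hT' x (Ext.eq_zero_of_injective _) rfl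
    have := ih T.X₃
    exact (congrArg (fun e => Ext.comp e hT'.extClass rfl)
      (Subsingleton.elim (α := EtCoh.H Y ((EtCoh.push η).obj T.X₃) (n + 1)) x₃ 0)).trans (Ext.zero_comp ..)

/-- The constant sheaf is pushed forward from the generic point. -/
theorem isIso_unit_const (M : Type) [AddCommGroup M] (hY : Pi1.IsNormalScheme Y) [IsPreimmersion η]
    (hmax : ∀ y : Y, (∀ z, z ⤳ y → z = y) → y ∈ Set.range η.base) :
    IsIso ((EtCoh.pullPushAdj η).unit.app (EtCoh.const Y M)) := by
  haveI : QuasiCompact η := ⟨fun U _ _ => (Set.toFinite _).isCompact⟩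
  exact Groth.Agent.H88.EtMod.ConstNormal.isIso_unit M η hY hmax

/-- Global sections of a constant sheaf over a separably closed field. -/
theorem card_gsec_const (M : Type) [AddCommGroup M] :
    Nat.card ((EtCore.gsec (S K)).obj (EtCoh.const (S K) M)) = Nat.card M := by
  haveI : IsSepClosed (IsLocalRing.ResidueField K) :=
    Groth.Agent.Lib.Henselian.StrictHenselization.isSepClosed_of_ringEquiv
      (RingEquiv.ofBijective (IsLocalRing.residue K)
        ⟨(IsLocalRing.residue K).injective, IsLocalRing.residue_surjective⟩)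
  rw [Nat.card_congr ((StrictHens.gsecIsoStalk K).app _).addCommGroupIsoToAddEquiv.toEquiv,
    ← Nat.card_congr (Equiv.ofBijective _ (Groth.Agent.H88.EtMod.ConstNormal.bijective_germ_sec (M := M)
      (StrictHens.cpt K) (StrictHens.topPt K)))]
  exact Nat.card_congr Equiv.ulift

section Comp

variable {C D E : Type*} [Category C] [Category D] [Category E]

/-- Units of adjunctions with isomorphic right adjoints are simultaneously isomorphisms. -/
theorem isIso_unit_of_natIso {L₁ L₂ : C ⥤ D} {R₁ R₂ : D ⥤ C} (a₁ : L₁ ⊣ R₁) (a₂ : L₂ ⊣ R₂) (e : R₁ ≅ R₂)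
    (x : C) [IsIso (a₁.unit.app x)] : IsIso (a₂.unit.app x) := by
  have h : IsIso ((a₁.ofNatIsoRight e).unit.app x) := by
    rw [show (a₁.ofNatIsoRight e).unit.app x = a₁.unit.app x ≫ e.hom.app (L₁.obj x) from by
      simp [Adjunction.ofNatIsoRight]]
    infer_instance
  rw [← Adjunction.unit_leftAdjointUniq_hom_app (a₁.ofNatIsoRight e) a₂ x]
  infer_instance

end Comp

/-- The constant sheaf is pushed forward from every open containing the generic point. -/
theorem isIso_unit_of_factor (M : Type) [AddCommGroup M] {U : Scheme.{u}} (j : U ⟶ Y) (ηU : S K ⟶ U)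
    (h : ηU ≫ j = η) [IsIso ((EtCoh.pullPushAdj η).unit.app (EtCoh.const Y M))]
    [IsIso ((EtCoh.pullPushAdj ηU).unit.app (EtCoh.const U M))] :
    IsIso ((EtCoh.pullPushAdj j).unit.app (EtCoh.const Y M)) := by
  haveI hc : IsIso (((EtCoh.pullPushAdj j).comp (EtCoh.pullPushAdj ηU)).unit.app (EtCoh.const Y M)) :=
    isIso_unit_of_natIso (EtCoh.pullPushAdj η) _ (EtCoh.pushCongr h.symm ≪≫ (EtCoh.pushComp j ηU).symm) _
  haveI : IsIso ((EtCoh.pullPushAdj ηU).unit.app ((EtCoh.pull j).obj (EtCoh.const Y M))) := by
    have hn := (EtCoh.pullPushAdj ηU).unit.naturality (EtCore.pullConst j M).hom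
    rw [Functor.id_map] at hn
    haveI : IsIso ((EtCore.pullConst j M).hom ≫ (EtCoh.pullPushAdj ηU).unit.app (EtCoh.const U M)) := inferInstance
    rw [hn] at this
    exact IsIso.of_isIso_comp_right _ ((EtCoh.pull ηU ⋙ EtCoh.push ηU).map (EtCore.pullConst j M).hom)
  rw [Adjunction.comp_unit_app] at hc
  exact IsIso.of_isIso_comp_right _ ((EtCoh.push j).map
    ((EtCoh.pullPushAdj ηU).unit.app ((EtCoh.pull j).obj (EtCoh.const Y M))))

end Groth.Agent.H61.GenPt
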